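import Cfsg.Agent.Comp.PG
import Cfsg.Agent.Comp.MatG

set_option autoImplicit false
set_option maxRecDepth 1000000
set_option maxHeartbeats 0
set_option Elab.async false

namespace CF.Sw5.L27

open CF.Comp

noncomputable def R : List (List Nat) := [[(nat_lit 1), (nat_lit 1)],
  [(nat_lit 3), (nat_lit 3), (nat_lit 3)],
  [(nat_lit 1), (nat_lit 3), (nat_lit 1), (nat_lit 3), (nat_lit 1), (nat_lit 3), (nat_lit 1), (nat_lit 3), (nat_lit 1), (nat_lit 3), (nat_lit 1), (nat_lit 3), (nat_lit 1), (nat_lit 3)],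
  [(nat_lit 1), (nat_lit 3), (nat_lit 1), (nat_lit 4), (nat_lit 1), (nat_lit 3), (nat_lit 1), (nat_lit 4), (nat_lit 1), (nat_lit 3), (nat_lit 1), (nat_lit 4), (nat_lit 1), (nat_lit 3), (nat_lit 1), (nat_lit 4)]]
noncomputable def WU : List (List Nat) := [[(nat_lit 5)],
  [(nat_lit 1), (nat_lit 3), (nat_lit 5), (nat_lit 2)]]
noncomputable def L0_0 : Net := (Net.cons (nat_lit 1) (nat_lit 85) Net.nil)
noncomputable def L0_1 : Net := (Net.cons (nat_lit 1) (nat_lit 4) (Net.cons (nat_lit 4) (nat_lit 4) (Net.cons (nat_lit 2) (nat_lit 18) (Net.cons (nat_lit 1) (nat_lit 5) Net.nil))))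
noncomputable def L0 : List Net := [L0_0, L0_1]
noncomputable def L1_0 : Net := (Net.cons (nat_lit 1) (nat_lit 80) (Net.cons (nat_lit 2) (nat_lit 32) (Net.cons (nat_lit 4) (nat_lit 8) (Net.cons (nat_lit 2) (nat_lit 50) (Net.cons (nat_lit 1) (nat_lit 16) Net.nil)))))
noncomputable def L1_1 : Net := (Net.cons (nat_lit 1) (nat_lit 80) (Net.cons (nat_lit 2) (nat_lit 16) (Net.cons (nat_lit 4) (nat_lit 4) (Net.cons (nat_lit 2) (nat_lit 2) (Net.cons (nat_lit 1) (nat_lit 4) Net.nil)))))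
noncomputable def L1_2 : Net := (Net.cons (nat_lit 2) (nat_lit 32) (Net.cons (nat_lit 4) (nat_lit 12) (Net.cons (nat_lit 2) (nat_lit 16) Net.nil)))
noncomputable def L1 : List Net := [L1_0, L1_1, L1_2]
noncomputable def LW : List (List Nat) := [[(nat_lit 3), (nat_lit 2), (nat_lit 3), (nat_lit 2), (nat_lit 3), (nat_lit 3), (nat_lit 1), (nat_lit 4), (nat_lit 1), (nat_lit 3), (nat_lit 1)],
  [(nat_lit 4), (nat_lit 1)],
  [(nat_lit 5), (nat_lit 7), (nat_lit 6), (nat_lit 7), (nat_lit 6)]]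
noncomputable def LC : List Lvl := [⟨(nat_lit 0), [[(nat_lit 1)],
  [(nat_lit 3)]], (nat_lit 4)⟩,
  ⟨(nat_lit 1), [[(nat_lit 5)],
  [(nat_lit 7)]], (nat_lit 3)⟩,
  ⟨(nat_lit 2), [[(nat_lit 9)]], (nat_lit 2)⟩]
noncomputable def LV : List (List Nat) := [[(nat_lit 2), (nat_lit 253), (nat_lit 0), (nat_lit 0), (nat_lit 0), (nat_lit 0), (nat_lit 0)],
  [(nat_lit 1), (nat_lit 6), (nat_lit 16), (nat_lit 32), (nat_lit 64), (nat_lit 128), (nat_lit 8)]]
noncomputable def Lσ : Net := (Net.cons (nat_lit 1) (nat_lit 80) (Net.cons (nat_lit 2) (nat_lit 32) (Net.cons (nat_lit 4) (nat_lit 7) (Net.cons (nat_lit 2) (nat_lit 51) (Net.cons (nat_lit 1) (nat_lit 21) Net.nil)))))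
noncomputable def LCs : List (List Nat) := [[(nat_lit 0), (nat_lit 6), (nat_lit 64), (nat_lit 128), (nat_lit 16), (nat_lit 32), (nat_lit 9)],
  [(nat_lit 0), (nat_lit 9), (nat_lit 32), (nat_lit 16), (nat_lit 128), (nat_lit 64), (nat_lit 6)]]
noncomputable def LA : List (List (List Nat)) := [[[0, 1], [6, 0]],
  [[0, 6], [1, 6]]]
noncomputable def LD : List (List (List (List Nat))) := [[[[1, 6], [0, 1]],
  [[1, 0], [1, 1]],
  [[6, 1], [0, 6]]],
 [[[1, 6], [0, 1]],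
  [[1, 0], [1, 1]],
  [[1, 5], [0, 1]]]]
noncomputable def eL_c0 : BT (Bx Nat) := (BT.leaf (Bx.mk (nat_lit 0x0)))
noncomputable def eL_c1 : BT (Bx Nat) := (BT.leaf (Bx.mk (nat_lit 0x2972ac1254eace92748c0d2066e8c745ba29d13030817c0ba05ae86742c0a204ee838123a06044000)))
noncomputable def eL_c2 : BT (Bx Nat) := (BT.leaf (Bx.mk (nat_lit 0xed467c3b4d9ed03781abb39d9a8f137924bd620ec86763b1d9d502b814bb119cd0256713986046000)))
noncomputable def eL_c3 : BT (Bx Nat) := (BT.leaf (Bx.mk (nat_lit 0xab775a2ad5d6703881b12bcd608ad35740ca062aab7542aa5d4f02c8152a95d49026750aa8d944000)))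
noncomputable def eL_p : BT (Bx Nat) := (BT.leaf (Bx.mk (nat_lit 0x4d039a05330e66144818882ee0dda1b3016582ca05920aa035404a70d4e121814282640cc8110c1108421040000000)))
noncomputable def eL_e0 : BT Nat := (BT.leaf (nat_lit 6))
noncomputable def eL_e : BT Nat := eL_e0
noncomputable def eL_cols : List (BT (Bx Nat)) := [eL_c0, eL_c1, eL_c2, eL_c3]
noncomputable def eL_ch (x j : Nat) : Bx Nat := chunkG eL_cols (nat_lit 1) x j
noncomputable def eL_L (x : Nat) : Bx (Nat → Nat) := lookG eL_ch (nat_lit 8) (nat_lit 255) (nat_lit 13) (nat_lit 8191) x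
noncomputable def eL_pc (_ j : Nat) : Bx Nat := eL_p.get j
noncomputable def eL_pb : Bx (Nat → Nat) := lookG eL_pc (nat_lit 8) (nat_lit 255) (nat_lit 15) (nat_lit 32767) (nat_lit 0)
noncomputable def eL_rots : BT CW := (BT.node (nat_lit 5) (BT.node (nat_lit 2) (BT.node (nat_lit 1) (BT.leaf ⟨[], (nat_lit 1000000), (nat_lit 0), (nat_lit 0), (nat_lit 0)⟩) (BT.leaf ⟨[], (nat_lit 1000000), (nat_lit 0), (nat_lit 0), (nat_lit 1)⟩)) (BT.node (nat_lit 3) (BT.leaf ⟨[], (nat_lit 1000000), (nat_lit 0), (nat_lit 0), (nat_lit 2)⟩) (BT.node (nat_lit 4) (BT.leaf ⟨[(nat_lit 1), (nat_lit 1)], (nat_lit 0), (nat_lit 0), (nat_lit 0), (nat_lit 3)⟩) (BT.leaf ⟨[(nat_lit 3), (nat_lit 2)], (nat_lit 4), (nat_lit 1), (nat_lit 0), (nat_lit 3)⟩)))) (BT.node (nat_lit 7) (BT.node (nat_lit 6) (BT.leaf ⟨[(nat_lit 2), (nat_lit 3)], (nat_lit 4), (nat_lit 0), (nat_lit 0), (nat_lit 3)⟩) (BT.leaf ⟨[(nat_lit 2), (nat_lit 2), (nat_lit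 2)], (nat_lit 1), (nat_lit 0), (nat_lit 0), (nat_lit 3)⟩)) (BT.node (nat_lit 8) (BT.leaf ⟨[(nat_lit 2), (nat_lit 1), (nat_lit 2), (nat_lit 1), (nat_lit 2), (nat_lit 1), (nat_lit 2), (nat_lit 1), (nat_lit 2), (nat_lit 1), (nat_lit 2), (nat_lit 1), (nat_lit 2), (nat_lit 1)], (nat_lit 2), (nat_lit 1), (nat_lit 0), (nat_lit 3)⟩) (BT.node (nat_lit 9) (BT.leaf ⟨[(nat_lit 2), (nat_lit 1), (nat_lit 3), (nat_lit 1), (nat_lit 2), (nat_lit 1), (nat_lit 3), (nat_lit 1), (nat_lit 2), (nat_lit 1), (nat_lit 3), (nat_lit 1), (nat_lit 2), (nat_lit 1), (nat_lit 3), (nat_lit 1)], (nat_lit 3), (nat_lit 1), (nat_lit 0), (nat_lit 3)⟩) (BT.leaf ⟨[(nat_lit 1), (nat_lit 2), (nat_lit 1), (nat_lit 2), (nat_lit 1), (nat_lit 2), (nat_lit 1), (nat_lit 2), (nat_lit 1), (nat_lit 2), (nat_lit 1), (nat_lit 2), (nat_lit 1), (nat_lit 2)], (nat_lit 2), (nat_lit 0), (nat_lit 0), (nat_lit 3)⟩)))))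
noncomputable def eL_hcs : List CW := [⟨[(nat_lit 1), (nat_lit 2)], (nat_lit 0), (nat_lit 0), (nat_lit 0), (nat_lit 0)⟩, ⟨[(nat_lit 3), (nat_lit 1)], (nat_lit 1), (nat_lit 0), (nat_lit 0), (nat_lit 0)⟩]
noncomputable def eL_H (x j : Nat) : Bx (Nat → Nat → Nat) := mkH eL_L eL_pb.1 eL_e.get (lmap CW.w eL_hcs) (nat_lit 24) (nat_lit 25) (nat_lit 4) (nat_lit 32) (nat_lit 512) (nat_lit 2047) x (eL_rots.get j)
noncomputable def eL_F (x b : Nat) : Bool := blkOK eL_H eL_ch (nat_lit 25) (nat_lit 32) (nat_lit 16) (nat_lit 8) (nat_lit 255) (nat_lit 13) (nat_lit 8191) x b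

theorem eL_k0_0 : allFrom (eL_F (nat_lit 0)) (nat_lit 0) (nat_lit 4) = true := by decide +kernel
theorem eL_k1_0 : allFrom (eL_F (nat_lit 1)) (nat_lit 0) (nat_lit 4) = true := by decide +kernel
theorem eL_k2_0 : allFrom (eL_F (nat_lit 2)) (nat_lit 0) (nat_lit 4) = true := by decide +kernel
theorem eL_k3_0 : allFrom (eL_F (nat_lit 3)) (nat_lit 0) (nat_lit 4) = true := by decide +kernel
theorem eL_all : Cov eL_F 4 4 0 := by
  have h := Cov.zero eL_F 4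
  have h := h.blk (b := 4) eL_k0_0 rfl
  have h := h.next (y := 1) rfl rfl
  have h := h.blk (b := 4) eL_k1_0 rfl
  have h := h.next (y := 2) rfl rfl
  have h := h.blk (b := 4) eL_k2_0 rfl
  have h := h.next (y := 3) rfl rfl
  have h := h.blk (b := 4) eL_k3_0 rfl
  have h := h.next (y := 4) rfl rfl
  exact h

theorem eL : Enum R [[1, 3]] (gensW 2) 24 :=
  ⟨eL_cols, eL_ch, eL_L, eL_H, eL_pb.1, eL_e.get, [(nat_lit 0), (nat_lit 1), (nat_lit 3), (nat_lit 4)], (nat_lit 1), (nat_lit 2), eL_rots, eL_hcs,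
    (nat_lit 25), (nat_lit 4), (nat_lit 32), (nat_lit 16), (nat_lit 512), (nat_lit 2047), (nat_lit 8), (nat_lit 255), (nat_lit 13), (nat_lit 8191), (nat_lit 1), (nat_lit 4),
    fun _ _ => rfl, fun _ => rfl, fun _ _ => rfl, by decide +kernel, eL_all.1⟩
theorem linL_a : linAll (tabP 7) 8 2 LV LA L0 LCs 2 = true := by decide +kernel
theorem linL : LinOK (tabP 7) 8 2 2 LV LA L0 :=
  ⟨⟨Lσ, by decide +kernel⟩, by decide +kernel, by decide +kernel, rfl,
    LCs, by decide +kernel, rfl, linAll_iff.1 linL_a⟩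
theorem chL : ChainGe L0 L1 8 3 2 LW LC 168 :=
  ⟨rfl, by decide, by decide, slp_of_slpOK (by decide +kernel), by decide +kernel, by decide +kernel,
    by decide +kernel⟩
theorem slL : allFrom (slAt (tabP 7) 2 LA LD) 0 2 = true := by decide +kernel

end CF.Sw5.L27
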